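import Cfsg.Agent.H246.Dl.Defs
import Cfsg.Agent.S4009

/-!
# S4769: Hall's bound for the derived series of a `p`-group (task 2498; helper680)

From S4009 (Mann's bound `2 ^ k + 2 * k ≤ n + 2`).
-/

set_option autoImplicit false

namespace Cfsg.Agent.H680.Dl

open Cfsg Cfsg.Agent.H246.Dl

/-- **Hall.** -/
theorem hall_series {P : Type*} [Group P] [Finite P] {p : ℕ} [hp : Fact p.Prime] (hP : IsPGroup p P) {d : ℕ}
    (h : derivedSeries P d ≠ ⊥) : p ^ (2 ^ d + d) ≤ Nat.card P := by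
  obtain ⟨n, hn⟩ := IsPGroup.iff_card.1 hP
  rw [hn]
  refine Nat.pow_le_pow_right hp.out.pos ?_
  have hanti : Antitone (derivedSeries P) := derivedSeries_antitone P
  -- the last nontrivial term
  have hsol : ∃ k, derivedSeries P k = ⊥ := by
    have : Group.IsNilpotent P := hP.isNilpotent
    have hs : Group.IsSolvable P := inferInstance
    exact hs.solvable
  classical
  obtain ⟨k, hk⟩ : ∃ k, k = Nat.find hsol := ⟨_, rfl⟩
  have hk0 : derivedSeries P k = ⊥ := by rw [hk]; exact Nat.find_spec hsol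
  have hkm : ∀ j < k, derivedSeries P j ≠ ⊥ := fun j hj => Nat.find_min hsol (by rwa [← hk])
  have hdk : d < k := by
    by_contra hlt
    push Not at hlt
    apply h
    rw [eq_bot_iff, ← hk0]
    exact hanti hlt
  obtain ⟨j, rfl⟩ : ∃ j, k = j + 1 := ⟨k - 1, by omega⟩
  have h1 := Cfsg.Agent.S4009.result p n j hn (hkm j (Nat.lt_succ_self j)) hk0
  have h2 : d ≤ j := by omega
  have h3 : 2 ^ d ≤ 2 ^ j := Nat.pow_le_pow_right (by norm_num) h2
  rcases Nat.lt_or_ge j 2 with hj | hj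
  · interval_cases j
    · -- `P ≠ 1`
      have hd0 : d = 0 := by omega
      subst hd0
      rcases Nat.eq_zero_or_pos n with h0 | h0
      · exfalso
        apply h
        rw [h0, pow_zero] at hn
        have : Subsingleton P := (Nat.card_eq_one_iff_unique.1 hn).1
        exact Subsingleton.elim _ _
      · norm_num
        exact h0
    · -- `P` is not abelian
      have h3n : 3 ≤ n := by
        by_contra hlt
        push Not at hlt
        apply hkm 1 (by norm_num)
        have hcomm : ∀ a b : P, a * b = b * a := by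
          interval_cases n
          · have : Subsingleton P := (Nat.card_eq_one_iff_unique.1 (by rw [hn, pow_zero])).1
            exact fun a b => Subsingleton.elim _ _
          · rw [pow_one] at hn
            have : IsCyclic P := isCyclic_of_prime_card hn
            exact fun a b => (IsCyclic.commGroup (α := P)).mul_comm a b
          · exact (IsPGroup.isMulCommutative_of_card_eq_prime_sq hn).is_comm.comm
        rw [eq_bot_iff, derivedSeries_one]
        exact Subgroup.commutator_le.2 fun a _ b _ => by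
          rw [Subgroup.mem_bot, commutatorElement_eq_one_iff_mul_comm]
          exact hcomm a b
      have : d ≤ 1 := h2
      interval_cases d
      · norm_num; omega
      · norm_num; exact h3n
  · omega

/-- **Mann** (sharper for `d ≥ 3`). -/
theorem mann_series {P : Type*} [Group P] [Finite P] {p : ℕ} [hp : Fact p.Prime] {n d : ℕ} (hn : Nat.card P = p ^ n)
    (h : derivedSeries P d ≠ ⊥) : 2 ^ d + 2 * d ≤ n + 2 := by
  have hanti : Antitone (derivedSeries P) := derivedSeries_antitone P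
  have hsol : ∃ k, derivedSeries P k = ⊥ := by
    have : Group.IsNilpotent P := (IsPGroup.iff_card.2 ⟨n, hn⟩).isNilpotent
    have hs : Group.IsSolvable P := inferInstance
    exact hs.solvable
  classical
  obtain ⟨k, hk⟩ : ∃ k, k = Nat.find hsol := ⟨_, rfl⟩
  have hk0 : derivedSeries P k = ⊥ := by rw [hk]; exact Nat.find_spec hsol
  have hkm : ∀ j < k, derivedSeries P j ≠ ⊥ := fun j hj => Nat.find_min hsol (by rwa [← hk])
  have hdk : d < k := by
    by_contra hlt
    push Not at hlt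
    apply h
    rw [eq_bot_iff, ← hk0]
    exact hanti hlt
  obtain ⟨j, rfl⟩ : ∃ j, k = j + 1 := ⟨k - 1, by omega⟩
  have h1 := Cfsg.Agent.S4009.result p n j hn (hkm j (Nat.lt_succ_self j)) hk0
  have h2 : d ≤ j := by omega
  have h3 : 2 ^ d ≤ 2 ^ j := Nat.pow_le_pow_right (by norm_num) h2
  omega

theorem dlLe_of_mann {S : Type*} [Group S] [Finite S] {p : ℕ} [hp : Fact p.Prime] {a d : ℕ} (ha : a + 2 < 2 ^ d + 2 * d)
    (h : ¬ p ^ (a + 1) ∣ Nat.card S) : DlLe p d S := by
  intro P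
  by_contra hne
  obtain ⟨n, hn⟩ := IsPGroup.iff_card.1 P.isPGroup'
  have h1 := mann_series hn hne
  apply h
  have h3 : p ^ n ∣ Nat.card S := hn ▸ Subgroup.card_subgroup_dvd_card _
  exact (pow_dvd_pow p (by omega)).trans h3

theorem dlLe_of_lt {S : Type*} [Group S] [Finite S] {p : ℕ} [hp : Fact p.Prime] {a d : ℕ} (ha : a < 2 ^ d + d)
    (h : ¬ p ^ (a + 1) ∣ Nat.card S) : DlLe p d S := by
  intro P
  by_contra hne
  have h1 := hall_series P.isPGroup' hne
  apply h
  obtain ⟨n, hn⟩ := IsPGroup.iff_card.1 P.isPGroup'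
  rw [hn] at h1
  have h2 : 2 ^ d + d ≤ n := (Nat.pow_le_pow_iff_right hp.out.one_lt).1 h1
  have h3 : p ^ n ∣ Nat.card S := hn ▸ Subgroup.card_subgroup_dvd_card _
  exact (pow_dvd_pow p (by omega)).trans h3

section

variable {S : Type*} [Group S] [Finite S] {p : ℕ} [hp : Fact p.Prime] {a : ℕ}

/-- **The corollaries.** -/
theorem dlLe_of_card (h : ¬ p ^ (a + 1) ∣ Nat.card S) : (a ≤ 2 → DlLe p 1 S) ∧ (a ≤ 5 → DlLe p 2 S) ∧
    (a ≤ 10 → DlLe p 3 S) ∧ (a ≤ 19 → DlLe p 4 S) ∧ (a ≤ 36 → DlLe p 5 S) ∧ (a ≤ 69 → DlLe p 6 S) := by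
  refine ⟨fun h1 => ?_, fun h1 => ?_, fun h1 => ?_, fun h1 => ?_, fun h1 => ?_, fun h1 => ?_⟩ <;>
  exact dlLe_of_lt (by norm_num; omega) h

theorem dlLe_one (h1 : a ≤ 2) (h : ¬ p ^ (a + 1) ∣ Nat.card S) : DlLe p 1 S := (dlLe_of_card h).1 h1
theorem dlLe_two (h1 : a ≤ 5) (h : ¬ p ^ (a + 1) ∣ Nat.card S) : DlLe p 2 S := (dlLe_of_card h).2.1 h1
theorem dlLe_three (h1 : a ≤ 10) (h : ¬ p ^ (a + 1) ∣ Nat.card S) : DlLe p 3 S := (dlLe_of_card h).2.2.1 h1
theorem dlLe_four (h1 : a ≤ 19) (h : ¬ p ^ (a + 1) ∣ Nat.card S) : DlLe p 4 S := (dlLe_of_card h).2.2.2.1 h1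
theorem dlLe_five (h1 : a ≤ 36) (h : ¬ p ^ (a + 1) ∣ Nat.card S) : DlLe p 5 S := (dlLe_of_card h).2.2.2.2.1 h1
theorem dlLe_six (h1 : a ≤ 69) (h : ¬ p ^ (a + 1) ∣ Nat.card S) : DlLe p 6 S := (dlLe_of_card h).2.2.2.2.2 h1

/-- The sharper corollaries. -/
theorem dlLe_of_card' (h : ¬ p ^ (a + 1) ∣ Nat.card S) : (a ≤ 11 → DlLe p 3 S) ∧ (a ≤ 21 → DlLe p 4 S) ∧
    (a ≤ 39 → DlLe p 5 S) ∧ (a ≤ 73 → DlLe p 6 S) := by
  refine ⟨fun h1 => ?_, fun h1 => ?_, fun h1 => ?_, fun h1 => ?_⟩ <;>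
  exact dlLe_of_mann (by norm_num; omega) h

end

end Cfsg.Agent.H680.Dl
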